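import Cfsg.Agent.KZ.SporB.Tool
import Cfsg.Agent.TAB.F22.Main
import Cfsg.Agent.TAB.F23.Use
import Cfsg.Agent.TAB.HN.Tab
import Cfsg.Agent.TAB.B.Fin.Cols
import Cfsg.Agent.H285.Ccp.HNThree
import Cfsg.Agent.H834.Main5475
import Cfsg.Agent.H843.FullFiB
import Cfsg.Agent.H843.FullB3
import Cfsg.Agent.H604.RB.ThreeB
import Cfsg.Agent.S2079
import Cfsg.Agent.S2080
import Cfsg.Agent.S2081
import Cfsg.Agent.S2082
import Cfsg.Agent.S2084

/-!
# KZ: `HN`, `Fi22`, `Fi23`, `Fi24'`, `B` (helper11)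
-/

set_option autoImplicit false
set_option maxRecDepth 100000

namespace Cfsg.Agent.KZ.SporB

open Cfsg Subgroup Cfsg.Agent.KZ.Spor Cfsg.Agent.TAB Cfsg.Agent.TAB.Eng Cfsg.Agent.TAB.Use

theorem normal_in {G : Type*} [Group G] {Q H : Subgroup G} (h : ∀ g ∈ H, ∀ q ∈ Q, g * q * g⁻¹ ∈ Q) :
    (Q.subgroupOf H).Normal :=
  ⟨fun q hq g => h g g.2 q hq⟩

theorem card_in {G : Type*} [Group G] {Q H : Subgroup G} (h : Q ≤ H) : Nat.card (Q.subgroupOf H) = Nat.card Q :=
  Nat.card_congr (subgroupOfEquivOfLe h).toEquiv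

namespace HN

open Cfsg.Agent.H285.HN3

theorem big : Big Spor.HN := by
  have hW : zpowers W ≤ ext.Q := zpowers_le.2 ext.w_mem
  have h1 : ((zpowers W).subgroupOf P).Normal := normal_in (by
    rintro _ ⟨q, hq, s, rfl⟩ _ ⟨k, rfl⟩
    have h1 : Commute (q * F ^ s) (W ^ k) := ((show Commute q W from ext.comm_w q hq).mul_left
      ((show Commute F W from mul_inv_eq_iff_eq_mul.1 F_W).zpow_left s)).zpow_right k
    exact ⟨k, (mul_inv_eq_iff_eq_mul.2 h1).symm⟩)
  have h2 : (ext.Q.subgroupOf P).Normal := normal_in (by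
    rintro _ ⟨q, hq, s, rfl⟩ x hx
    have h2 := mul_mem (mul_mem hq (Fz_Q s x hx)) (inv_mem hq)
    rwa [show q * (F ^ s * x * (F ^ s)⁻¹) * q⁻¹ = q * F ^ s * x * (q * F ^ s)⁻¹ by group] at h2)
  refine Big.of_sub P index_P (Big.of_CZ ((zpowers W).subgroupOf P) (ext.Q.subgroupOf P) (subgroupOf_mono P hW)
    (fun a ha b hb => ext.commutator_mem a ha b hb) (fun a ha => ?_) ?_ fun h => ?_)
  · change (a : Spor.HN) ^ 3 ∈ zpowers W
    rw [ext.pow_eq_one (by decide) a ha]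
    exact one_mem _
  · rw [card_in (hW.trans Q_le_P), card_in Q_le_P, Nat.card_zpowers, ext.hw]
    exact ext.le_card
  · have h3 := mul_dvd_mul (ext.pow_dvd_card Nat.prime_three (by decide)) h
    rw [← card_in Q_le_P, card_mul_index] at h3
    have h4 := h3.trans (card_subgroup_dvd_card P)
    rw [card_HN] at h4
    norm_num at h4

theorem good_of {T : TD Spor.HN TAB.HN.dat} (h : TAB.HN.In T) : Good Spor.HN :=
  Good.of_big ((out_eq _).trans S2082.result).le big (cp_of_tab h.tab (by decide +kernel)) h.deg (by decide +kernel)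

end HN

namespace Fi22

theorem big : Big Spor.Fi22 := by
  have : Fact (Nat.Prime 3) := ⟨Nat.prime_three⟩
  let m : H834.Model Spor.Fi22 _ := ⟨MulEquiv.refl _, fun _ => Iff.rfl⟩
  have := m.finite
  have hR : m.R0 ≤ m.P0 := by
    rintro _ ⟨n, hn, rfl⟩
    exact ⟨0, n, hn, by rw [m.κ_zero, one_mul]⟩
  have h1 : (m.A.subgroupOf m.P0).Normal := normal_in (by
    rintro _ ⟨v, n, -, rfl⟩ x hx
    have h2 := mul_mem (mul_mem (m.κ_mem v) (m.M_norm (m.W_le_M (m.ψ_mem_W n)) hx)) (inv_mem (m.κ_mem v))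
    rwa [show m.κ v * (m.ψ n * x * (m.ψ n)⁻¹) * (m.κ v)⁻¹ = m.κ v * m.ψ n * x * (m.κ v * m.ψ n)⁻¹ by group] at h2)
  refine Big.of_sub m.P0 (idx_sub (k := 9) m.card_P0.symm.dvd (by rw [m.card]; norm_num))
    (big_of_split m.isPGroup_P0 (m.A.subgroupOf m.P0) (m.R0.subgroupOf m.P0) (fun h => ?_) ?_ ?_ ?_)
  · have h2 := card_in m.A_le_P0
    rw [h, card_bot, m.card_A] at h2
    norm_num at h2
  · rw [card_in hR, m.card_R0]
    norm_num
  · rw [eq_top_iff]
    rintro ⟨_, v, n, hn, rfl⟩ -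
    have h2 : m.ψ n ∈ m.R0 := ⟨n, hn, rfl⟩
    exact mul_mem_sup (x := (⟨m.κ v, m.A_le_P0 (m.κ_mem v)⟩ : m.P0)) (y := ⟨m.ψ n, hR h2⟩) (m.κ_mem v) h2
  · rw [card_in hR, card_in m.A_le_P0, m.card_R0, m.card_A, m.card_P0]
    norm_num

theorem good : Good Spor.Fi22 := by
  have : Finite Spor.Fi22 := Nat.finite_of_card_ne_zero (by rw [Fischer.Fi22Order.card_fi22]; norm_num)
  exact Good.of_big ((out_eq _).trans S2079.result).le big (cp_of_tab TAB.F22.tab (by decide +kernel)) TAB.F22.deg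
    (by decide +kernel)

end Fi22

namespace Fi24

open Cfsg.Agent.H843.FullFi Cfsg.Agent.H841.Sev Cfsg.Agent.Fischer.Y322Iso

theorem big : Big Spor.Fi24' := by
  have := R08.FiTwentyFour.finite_Fi24
  have : Finite Spor.Fi22 := Nat.finite_of_card_ne_zero (by rw [Fischer.Fi22Order.card_fi22]; norm_num)
  have : Finite O := inferInstance
  obtain ⟨e⟩ := omega_equiv
  have h1 := big_down toFi toFi_injective (idx_of_card toFi_injective (k := 9) (by rw [card_H8]; norm_num)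
    (by rw [Fischer.Fi22Order.card_fi22]; norm_num)) Fi22.big
  exact Big.of_sub NG index_NG (Big.of_surj _ ph.rangeRestrict_surjective (Big.of_sub ((commutator O).subgroupOf _)
    (fun h => index_omega (h.trans (relIndex_dvd_index_of_normal _ _)))
    (Big.congr ((equiv.trans e.symm).trans (subgroupOfEquivOfLe omega_le).symm) h1)))

theorem cp : CP Spor.Fi24' := by
  have : Fact (Nat.Prime 3) := ⟨Nat.prime_three⟩
  have := R08.FiTwentyFour.finite_Fi24
  refine cp_of_sub (A.subgroupOf G') ((IsPGroup.of_card card_A).comap_subtype) fun x hx => ?_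
  have h1 : ∀ v, (x : Spor.Fi24) * vec v * (x : Spor.Fi24)⁻¹ = vec v := fun v =>
    mul_inv_eq_iff_eq_mul.2 (congrArg Subtype.val (hx ⟨vec v, vec_mem' v⟩ ⟨v, rfl⟩)).symm
  have h2 : (x : Spor.Fi24) ∈ N := mem_N_iff.2 (by
    rintro _ ⟨v, rfl⟩
    exact ⟨v, (h1 v).symm⟩)
  exact (Ph_eq_one (g := ⟨x, h2⟩)).1 (Ph_eq fun v => by rw [ac_one]; exact h1 v)

theorem good_of {L : List ℕ} (hL : DegList Spor.Fi24' L) (h : 10 ≤ m3 L ∧ 19 ≤ m3 L + 3 * u3 L ∧ 2 ≤ u3 L) :
    Good Spor.Fi24' := by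
  have := R08.FiTwentyFour.finite_Fi24
  exact Good.of_big ((out_eq _).trans S2081.result).le big cp hL h

end Fi24

namespace B

open Cfsg.Agent.H604.RB.ThreeB Cfsg.Agent.H863.U33 Cfsg.Agent.H604.U33

theorem big_tb {G : Type} [Group G] [Finite G] {y : G} {e : Fin 8 → G} {t : G} {w : Fin 6 → G} {k : Fin 2 → G} {n : G}
    (h : TB y e t w k n) (hc : Nat.card (centralizer ({y} : Set G)) ≤ 65303470080) :
    Big (centralizer ({y} : Set G)) := by
  have h0 : (1 : ZMod 3) ≠ 2 := by decide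
  have : Fact (Nat.Prime 3) := ⟨Nat.prime_three⟩
  obtain ⟨h1, h2, h3, -⟩ := StIm.stC' stNF stO h hc
  have h4 : ∀ g ∈ centralizer ({y} : Set G), ∀ p ∈ PP y e, g * p * g⁻¹ ∈ PP y e := fun g hg p hp => by
    have h4 := (h3 g⁻¹ (.inl (by rw [inv_inv, mem_centralizer_singleton_iff.1 hg, mul_inv_cancel_right]))).1 p hp
    rwa [inv_inv] at h4
  have h5 : PP y e ≤ centralizer ({y} : Set G) := (closure_le _).2 (by
    rintro _ (rfl | ⟨j, rfl⟩)
    exacts [mem_centralizer_singleton_iff.2 rfl, mem_centralizer_singleton_iff.2 (h.ey j)])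
  have hy : y ∈ PP y e := subset_closure (.inl rfl)
  have hp : IsPGroup 3 (PP y e) := IsPGroup.of_card (n := 9) (stNF h).2.2
  have := normal_in h4
  have ht : t ∈ centralizer ({y} : Set G) := mem_centralizer_singleton_iff.2 h.ty
  have ho : ¬ 3 ∣ orderOf t := fun h6 =>
    absurd (h6.trans (orderOf_dvd_of_pow_eq_one ((pow_two t).trans h.t2))) (by norm_num)
  have h6 : ∀ g ∈ centralizer ({y} : Set G), t * g * t⁻¹ * g⁻¹ ∈ PP y e := fun g hg => by
    have h6 : ∀ p ∈ PP y e, t * p * t⁻¹ * p⁻¹ ∈ PP y e := fun p hp => mul_mem (h4 t ht p hp) (inv_mem hp)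
    have h7 : ∀ c : G, c * t = t * c → t * c * t⁻¹ * c⁻¹ ∈ PP y e := fun c hc => by
      rw [← hc, mul_inv_cancel_right, mul_inv_cancel]
      exact one_mem _
    rw [h1] at hg h4
    induction hg using closure_induction with
    | mem x hx =>
      rcases hx with (((rfl | ⟨j, rfl⟩) | rfl) | ⟨j, rfl⟩) | ⟨j, rfl⟩
      exacts [h6 _ hy, h6 _ (subset_closure (.inr ⟨j, rfl⟩)), h7 _ rfl, h7 _ (h.wt j), h7 _ (h.kt j)]
    | one => exact h7 1 (by rw [one_mul, mul_one])
    | mul a b ha _ ia ib =>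
      have h8 := mul_mem ia (h4 a ha _ ib)
      rwa [show t * a * t⁻¹ * a⁻¹ * (a * (t * b * t⁻¹ * b⁻¹) * a⁻¹) = t * (a * b) * t⁻¹ * (a * b)⁻¹ by group] at h8
    | inv a ha ia =>
      have h8 := h4 a⁻¹ (inv_mem ha) _ (inv_mem ia)
      rwa [show a⁻¹ * (t * a * t⁻¹ * a⁻¹)⁻¹ * a⁻¹⁻¹ = t * a⁻¹ * t⁻¹ * a⁻¹⁻¹ by group] at h8
  refine Big.of_T' (QuotientGroup.mk' ((PP y e).subgroupOf _)) ?_ (fun g hg => ?_) ⟨t, ht⟩ (fun g => ?_) (fun h7 => ?_)
    (fun h7 => ho (h7.trans ((orderOf_map_dvd _ _).trans (Subgroup.orderOf_mk t ht).dvd))) ?_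
  · rw [QuotientGroup.ker_mk']
    exact hp.comap_subtype
  · rw [QuotientGroup.ker_mk'] at hg ⊢
    exact zpowers_le.2 hy (CentP.cent_PP stNF stAct stO h hc fun p hp =>
      congrArg Subtype.val (mem_centralizer_iff.1 hg ⟨p, h5 hp⟩ hp))
  · rw [← commutatorElement_eq_one_iff_mul_comm, ← map_commutatorElement]
    exact (QuotientGroup.eq_one_iff _).2 (h6 g g.2)
  · have h8 := h.te 0
    have h10 : (⟨t, ht⟩ : centralizer ({y} : Set G)) ∈ (PP y e).subgroupOf _ := (QuotientGroup.eq_one_iff _).1 h7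
    rw [eq_one_of_mem hp (x := t) h10 ho, inv_one, one_mul, mul_one] at h8
    have h9 := ((stNF h).2.1 (Pi.single 0 1) 0 _ _ (Eq.trans (by simp [nf, ZMod.val_one]) h8)).1
    exact h0 (congrFun h9 0)
  · have h7 := ((PP y e).subgroupOf (centralizer ({y} : Set G))).card_mul_index
    rw [card_in h5, (stNF h).2.2, h2] at h7
    rw [QuotientGroup.range_mk', card_top, ← index_eq_card]
    omega

theorem fin : Finite Spor.BabyMonster := Nat.finite_of_card_ne_zero (by rw [BM.KHAll.card_B]; norm_num)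

theorem big : Big Spor.BabyMonster := by
  have := finG
  have := fin
  exact Big.congr BM.KHAll.iso.symm (Big.of_sub _ (idx_sub (k := 13) (by rw [card_y]; norm_num)
    (by rw [NotCT.Orders.b isoG]; norm_num)) (big_tb tb card_y_le))

theorem cp : CP Spor.BabyMonster := by
  have : Fact (Nat.Prime 3) := ⟨Nat.prime_three⟩
  have := finG
  exact cp_congr BM.KHAll.iso (cp_of_sub _ (IsPGroup.of_card (n := 9) (stNF tb).2.2) fun x hx =>
    zpowers_le.2 (subset_closure (.inl rfl)) (CentP.cent_PP stNF stAct stO tb card_y_le hx))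

theorem good_of (hL : DegList Spor.BabyMonster TAB.B.Fin.degs) : Good Spor.BabyMonster := by
  have := fin
  exact Good.of_big (((out_eq _).trans S2084.result).le.trans one_le_two) big cp hL (by decide +kernel)

end B

namespace Fi23

theorem good_of (hL : DegList Spor.Fi23 TAB.F23.degs) : Good Spor.Fi23 := by
  have := B.fin
  obtain ⟨f, hf⟩ := H843.FullB3.exists_hom
  have : Finite Spor.Fi23 := Finite.of_injective f hf
  have hi := idx_of_card hf (k := 13) (by rw [S1697.result.2]; norm_num) (by rw [BM.KHAll.card_B]; norm_num)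
  exact Good.of_big (((out_eq _).trans S2080.result).le.trans one_le_two) (big_down f hf hi B.big)
    (cp_down f hf hi B.cp) hL (by decide +kernel)

end Fi23

end Cfsg.Agent.KZ.SporB
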