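import Cfsg.Agent.KZ.SporB.Tool
import Cfsg.Agent.TAB.M.Main
import Cfsg.Agent.H740.OreM.ThreeBd
import Cfsg.Agent.S2085

/-!
# KZ: the Monster (helper11)
-/

set_option autoImplicit false
set_option maxRecDepth 100000

namespace Cfsg.Agent.KZ.SporB.M

open Cfsg Subgroup Cfsg.Agent.KZ.Spor Cfsg.Agent.TAB Cfsg.Agent.TAB.Eng Cfsg.Agent.TAB.Use
open Cfsg.Agent.BpSpor.M5 Cfsg.Agent.BpSpor.MBigModel

theorem big_of_rad {D A : Type*} [Group D] [Finite D] [Group A] {z x : D} {N : Subgroup D}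
    {f : centralizer ({z} : Set D) →* A} (h : Rad 3 z x N f) (hN : IsPGroup 3 N) (h9 : 9 ∣ N.index)
    (hc : 3 < Nat.card N) : Big D := by
  have := h.nN
  refine Big.of_T (QuotientGroup.mk' N) (by rwa [QuotientGroup.ker_mk']) z (fun g => ?_) (fun h1 => ?_) ?_
    fun s hs h1 => ?_
  · obtain ⟨n, hn, c, h1, rfl⟩ := h.sup g
    rw [map_mul, show QuotientGroup.mk' N n = 1 from (QuotientGroup.eq_one_iff n).2 hn, one_mul, ← map_mul, ← map_mul, h1]
  · exact absurd (h1.trans ((orderOf_map_dvd _ z).trans (orderOf_dvd_of_pow_eq_one ((pow_two z).trans h.zz))))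
      (by norm_num)
  · rwa [QuotientGroup.range_mk', card_top]
  · rw [QuotientGroup.ker_mk'] at h1
    have h2 : s⁻¹ * z ∈ N := QuotientGroup.eq.1 hs
    have h3 : Commute (s⁻¹ * z) s := mem_centralizer_iff.1 h1 _ h2
    have h4 := h3.mul_right (Commute.refl _)
    rw [mul_inv_cancel_left] at h4
    obtain ⟨i, hi⟩ := mem_zpowers_iff.1 (h.cN _ h2 h4)
    have h5 : N ≤ zpowers x := fun m hm => h.cN m hm (by
      have h5 := (show Commute m s from mem_centralizer_iff.1 h1 m hm).mul_right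
        ((show Commute m x from h.xc m).zpow_right i)
      rwa [hi, mul_inv_cancel_left] at h5)
    have h6 := card_le_of_le h5
    rw [Nat.card_zpowers, h.ox] at h6
    omega

theorem big : Big Spor.Monster := by
  have : Fact (Nat.Prime 3) := ⟨Nat.prime_three⟩
  have := finite
  obtain ⟨e⟩ := H593.IMMon.equivMG
  have : Finite Spor.Monster := Finite.of_equiv _ e.symm.toEquiv
  obtain ⟨x, hx, hf, h⟩ := H31.TwoCyc.MPart.exists_full3
  obtain ⟨N, hN⟩ := H740.OreM.ThreeBd.exists_SD hx hf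
  have h1 := h 20 (by rw [card_M]; norm_num)
  refine Big.congr e.symm (Big.of_sub _ (idx_sub h1 (by rw [card_M]; norm_num))
    (big_of_rad hN.rad (IsPGroup.of_card hN.cardN) ?_ (by rw [hN.cardN]; norm_num)))
  rw [← N.card_mul_index, hN.cardN] at h1
  omega

theorem good : Good Spor.Monster := by
  obtain ⟨T, hm, h⟩ := TAB.M.out.tab
  have : Finite Spor.Monster := Nat.finite_of_card_ne_zero (hm.1 ▸ by decide +kernel)
  exact Good.of_big (((out_eq _).trans S2085.result).le.trans one_le_two) big (cp_of_tab h (by decide +kernel))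
    TAB.M.deg (by decide +kernel)

end Cfsg.Agent.KZ.SporB.M
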