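import Cfsg.Agent.KZ.SporB.Co
import Cfsg.Agent.TAB.Suz.Main
import Cfsg.Agent.TAB.Ly.Main
import Cfsg.Agent.TAB.ON.Main
import Cfsg.Agent.TAB.Th.Main
import Cfsg.Agent.H468.RowConway
import Cfsg.Agent.H811.SuzCov
import Cfsg.Agent.H811.PsuH
import Cfsg.Agent.H208.LSideU43c
import Cfsg.Agent.SporadicStructure.PsuMatch
import Cfsg.Agent.H582.Ly.Three
import Cfsg.Agent.H809.PiBS.ONLoc
import Cfsg.Agent.H158.ThIso
import Cfsg.Agent.H776.ThSub
import Cfsg.Agent.S2074
import Cfsg.Agent.S2076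
import Cfsg.Agent.S2078
import Cfsg.Agent.S2083

/-!
# KZ: `Suz`, `Ly`, `ON`, `Th` (helper11)
-/

set_option autoImplicit false
set_option maxRecDepth 100000

namespace Cfsg.Agent.KZ.SporB

open Cfsg Subgroup Cfsg.Agent.KZ.Spor Cfsg.Agent.TAB Cfsg.Agent.TAB.Eng Cfsg.Agent.TAB.Use

/-- `PSU₄(3)` -/
theorem big_psu {F : Type} [Field F] [Fintype F] (hF : Fintype.card F = 9) : Big (PSU 4 F 3) := by
  have := TAB.McL.finite
  have h1 := H208.LSideU43c.card_psu hF
  have : Finite (PSU 4 F 3) := Nat.finite_of_card_ne_zero (by rw [h1]; norm_num)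
  obtain ⟨K, _, _, hK, f, hf⟩ := H468.exists_psu_mcl
  obtain ⟨e⟩ := SporadicStructure.PsuMatch.psu_iso_of_card (hK.trans hF.symm) 4 3
  exact Big.congr e (big_down f hf (idx_of_card hf (k := 6) (by rw [H208.LSideU43c.card_psu hK]; norm_num)
    (by rw [H573.Spor.card_McL]; norm_num)) McL.big)

namespace Suz

open Cfsg.Agent.SuzThree.ThreeWr

theorem big : Big Spor.Suz := by
  have : Fact (Nat.Prime 3) := ⟨Nat.prime_three⟩
  have h0 := SporadicRecognition.SuzOrder.card_Suz
  have : Finite Spor.Suz := Nat.finite_of_card_ne_zero (by rw [h0]; norm_num)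
  obtain ⟨g, hg, hk⟩ := H811.SuzCov.cov
  obtain ⟨F, _, _, hF, ⟨e⟩⟩ := H811.PsuH.psu
  have : Finite LThreeCo1Twelve.Gam.H := Finite.of_surjective g hg
  refine Big.of_sub _ (idx_sub (k := 7) ?_ (by rw [h0]; norm_num)) (Big.of_surj g hg (Big.congr e.symm (big_psu hF)))
  have h1 := g.ker.card_mul_index
  rw [index_ker, g.range_eq_top.2 hg, card_top, Nat.card_congr e.toEquiv, H208.LSideU43c.card_psu hF] at h1
  have h2 : g.ker.map (centralizer ({y0} : Set Spor.Suz)).subtype = zpowers y0 := by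
    refine le_antisymm ?_ (zpowers_le.2 ⟨⟨y0, mem_centralizer_singleton_iff.2 rfl⟩, (hk _).2 (mem_zpowers _), rfl⟩)
    rintro _ ⟨c, hc, rfl⟩
    exact (hk c).1 hc
  rw [← card_map_of_injective (centralizer ({y0} : Set Spor.Suz)).subtype_injective, h2, Nat.card_zpowers] at h1
  rcases (Nat.dvd_prime Nat.prime_three).1 (orderOf_dvd_of_pow_eq_one y0_cube) with h3 | h3
  · rw [h3, orderOf_eq_one_iff.1 h3, centralizer_eq_top_iff_subset.2 (by simp), card_top, h0] at h1
    norm_num at h1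
  · rw [← h1, h3]
    norm_num

theorem good : Good Spor.Suz := by
  have : Finite Spor.Suz := Nat.finite_of_card_ne_zero (by rw [SporadicRecognition.SuzOrder.card_Suz]; norm_num)
  exact Good.of_big ((out_eq _).trans S2074.result).le big (cp_of_tab TAB.Sz.tab (by decide +kernel)) TAB.Suz.deg
    (by decide +kernel)

end Suz

namespace Ly

theorem big : Big Spor.Ly := by
  have := TAB.Ly.fin
  have := TAB.McL.finite
  obtain ⟨x, h⟩ := H582.Ly.exists_tdata_ly
  obtain ⟨e⟩ := h.mcl.quot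
  exact Big.of_sub _ (idx_sub (k := 7) (by rw [h.mcl.card]; norm_num) (by rw [TAB.Ly.card]; norm_num))
    (Big.of_surj _ (QuotientGroup.mk'_surjective _) (Big.congr e.symm McL.big))

theorem good : Good Spor.Ly := by
  have := TAB.Ly.fin
  obtain ⟨T, -, -, h⟩ := TAB.Ly.tab
  exact Good.of_big (((out_eq _).trans S2076.result).le.trans one_le_two) big (cp_of_tab h (by decide +kernel))
    TAB.Ly.deg (by decide +kernel)

end Ly

namespace ON

theorem good : Good Spor.ON := by
  have := KFacts.ON.Cent.finite_ON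
  obtain ⟨T, -, -, -, h⟩ := TAB.ON.exists_tab
  obtain ⟨P, h1, h2, -⟩ := H809.PiBS.ON.exists_sylow
  exact Good.of_big ((out_eq _).trans S2078.result).le
    (Big.of_comm P h2 (Dvd.dvd.trans (by rw [h1]; norm_num) (card_subgroup_dvd_card (P : Subgroup Spor.ON))))
    (cp_of_tab h (by decide +kernel)) TAB.ON.deg (by decide +kernel)

end ON

namespace Th

open Cfsg.Agent.H776.ThS

theorem good : Good Spor.Th := by
  have := TAB.Th.finTh
  obtain ⟨T, -, -, -, -, h⟩ := TAB.Th.tab
  exact Good.of_big (((out_eq _).trans S2083.result).le.trans one_le_two)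
    (big_of_coords H158.ThIso.sylTh_iso (·.x1) (·.x2) (fun x => x.x5 - x.x3) mul_x1 mul_x2
      (fun x y => by rw [mul_x3, mul_x5]; ring) fun i j k => ⟨⟨i, j, 0, 0, k, 0, 0, 0, 0, 0⟩, rfl, rfl, sub_zero k⟩)
    (cp_of_tab h (by decide +kernel)) TAB.Th.deg (by decide +kernel)

end Th

end Cfsg.Agent.KZ.SporB
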