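import Cfsg.Agent.KZ.Spor.Main
import Cfsg.Agent.KZ.SporB.Suz
import Cfsg.Agent.KZ.SporB.Fi
import Cfsg.Agent.KZ.SporB.M
import Cfsg.Agent.TAB.F24.Use

/-!
# KZ: `Box.spor` from the four tables which are not yet final (helper11)
-/

set_option autoImplicit false
set_option maxRecDepth 100000

namespace Cfsg.Agent.KZ.SporB

open Cfsg Cfsg.Agent.KZ.Spor Cfsg.Agent.TAB.Use

/-- **`Box.spor`** -/
theorem row_spor (hn : ∃ T, TAB.HN.In T) (f23 : DegList Spor.Fi23 TAB.F23.degs) (f24 : DegList Spor.Fi24' TAB.F24.degs)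
    (b : DegList Spor.BabyMonster TAB.B.Fin.degs) : Row fun S _ => IsSporadicGroup S :=
  row_spor_of ⟨goodF_of Co1.good, goodF_of Co2.good, goodF_of Co3.good, goodF_of McL.good, goodF_of Suz.good,
    goodF_of ON.good, goodF_of Ly.good, goodF_of Fi22.good, goodF_of (Fi23.good_of f23),
    goodF_of (Fi24.good_of f24 (by decide +kernel)), goodF_of (HN.good_of hn.choose_spec), goodF_of Th.good,
    goodF_of (B.good_of b), goodF_of M.good⟩

end Cfsg.Agent.KZ.SporB
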