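import Cfsg.Agent.KZ.SporB.Tool
import Cfsg.Agent.TAB.McL.Main
import Cfsg.Agent.TAB.Co1.Tab
import Cfsg.Agent.TAB.Co2.Main
import Cfsg.Agent.TAB.Co3.Main
import Cfsg.Agent.CpAut.SporThree.McL
import Cfsg.Agent.H916.HT.McLCo2
import Cfsg.Agent.H945.Wk.Co3Syl
import Cfsg.Agent.H956.Co1P.Main
import Cfsg.Agent.S2069
import Cfsg.Agent.S2071

/-!
# KZ: `McL`, `Co1`, `Co2`, `Co3` (helper11)
-/

set_option autoImplicit false
set_option maxRecDepth 100000

namespace Cfsg.Agent.KZ.SporB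

open Cfsg Subgroup Cfsg.Agent.KZ.Spor Cfsg.Agent.TAB Cfsg.Agent.TAB.Eng Cfsg.Agent.TAB.Use Cfsg.Agent.H526.PcNf

theorem card_pc {G : Type*} [Group G] {n : ℕ} {p : ℕ → G} (h : Pc 3 n p) : Nat.card (closure (Sk n p 0)) ≤ 3 ^ n := by
  classical
  have hs : Function.Surjective fun N : Fin (3 ^ n) =>
      if h : ((nfw 3 n 0 N).map p).prod ∈ closure (Sk n p 0) then (⟨_, h⟩ : closure (Sk n p 0)) else 1 := by
    rintro ⟨x, hx⟩
    obtain ⟨N, hN, rfl⟩ := h.exists_nf' (by norm_num) hx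
    exact ⟨⟨N, hN⟩, by simp only [dif_pos hx]⟩
  simpa using Nat.card_le_card_of_surjective _ hs

namespace McL

open Cfsg.Agent.McLType.ThreeElts Cfsg.Agent.CpAut.SporThree.McLBig

/-- the letters -/
def lt (k : ℕ) : ℕ := [2, 3, 5].getD k 0

theorem pcd : Pc 3 3 fun k => π (lt k) where
  pow i hi := π_cube _ (by interval_cases i <;> decide)
  rel i j hij hj := by
    have h : ∀ i < 3, ∀ j < 3, eqB [lt i, lt j] [lt j, lt i] = true := by decide +kernel
    have h1 : π (lt i) * π (lt j) = π (lt j) * π (lt i) := by simpa using eq_of_eqB (h i (by omega) j hj)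
    rw [h1, mul_inv_cancel_right]
    exact subset_closure ⟨j, by omega, hj, rfl⟩

theorem comm_mem {i j : ℕ} (hi : i < 6) (hj : j < 6) :
    π i * π j * (π i)⁻¹ * (π j)⁻¹ ∈ closure (H526.PcNf.Sk 3 (fun k => π (lt k)) 0) := by
  have h : ∀ i < 6, ∀ j < 6, ∃ N < 27, eqB [i, j] ((nfw 3 3 0 N).map lt ++ [j, i]) = true := by decide +kernel
  obtain ⟨N, -, h1⟩ := h i hi j hj
  have h2 : π i * π j = (((nfw 3 3 0 N).map lt).map π).prod * (π j * π i) := by simpa using eq_of_eqB h1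
  rw [h2, ← mul_assoc, mul_inv_cancel_right, mul_inv_cancel_right, List.map_map]
  refine Subgroup.list_prod_mem _ fun y hy => ?_
  obtain ⟨k, hk, rfl⟩ := List.mem_map.1 hy
  exact subset_closure ⟨k, Nat.zero_le _, (nfw_mem hk).2, rfl⟩

theorem bigP : Big P := by
  have : Fact (Nat.Prime 3) := ⟨Nat.prime_three⟩
  refine big_of_gen (IsPGroup.of_card (n := 6) card_P) _ ?_ ?_
    ((Nat.mul_le_mul_left 27 (card_pc pcd)).trans card_P.ge)
  · rintro _ ⟨i, -, hi, rfl⟩ r hr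
    refine (closure_le ((Subgroup.closure _).comap (MulAut.conj (π i)).toMonoidHom)).2 ?_ hr
    rintro _ ⟨j, h0, hj, rfl⟩
    have h1 := mul_mem (comm_mem hi (j := lt j) (by interval_cases j <;> decide)) (subset_closure ⟨j, h0, hj, rfl⟩)
    rwa [inv_mul_cancel_right] at h1
  · rintro _ ⟨i, -, hi, rfl⟩ _ ⟨j, -, hj, rfl⟩
    exact comm_mem hi hj

theorem big : Big Spor.McL := by
  have := TAB.McL.finite
  obtain ⟨f, hf⟩ := H916.HT.McLCo2.emb_mcl
  exact Big.of_inj f hf (idx_of_card hf (k := 6) card_P.symm.dvd (by rw [H573.Spor.card_McL]; norm_num)) bigP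

theorem cp : CP Spor.McL := by
  obtain ⟨T, -, -, h, -⟩ := TAB.McL.tabK
  obtain ⟨e⟩ := H359.CT.McL.iso_K0
  exact cp_congr e.symm (cp_of_tab h (by decide +kernel))

theorem good : Good Spor.McL := by
  have := TAB.McL.finite
  exact Good.of_big ((out_eq _).trans S2073.result).le big cp TAB.McL.deg (by decide +kernel)

end McL

namespace Co2

open Cfsg.Agent.McLType.ThreeElts Cfsg.Agent.TAB.Co Cfsg.Agent.TAB.Sm2 Cfsg.Agent.TAB.Co2

theorem good : Good Spor.Co2 := by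
  have := Co2Type.CardCo2.finite_co2
  obtain ⟨f, hf⟩ := H916.HT.McLCo2.emb_co2
  obtain ⟨T, hm, hs⟩ := seeded
  obtain ⟨-, hT⟩ := tab_of_virt hm ok_one (virt_of_certs hm.1 ok_primes hs (allL_spec ok_certs) ok_all) ok_rows
  exact Good.of_big (((out_eq _).trans S2070.result).le.trans one_le_two)
    (Big.of_inj f hf (idx_of_card hf (k := 6) card_P.symm.dvd (by rw [Co2Type.CardCo2.card_co2]; norm_num)) McL.bigP)
    (cp_of_tab hT (by decide +kernel)) deg (by decide +kernel)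

end Co2

namespace Co3

open Cfsg.Agent.TAB.Co Cfsg.Agent.TAB.Sm2 Cfsg.Agent.TAB.Co3 Cfsg.Agent.H526.Co3Three Cfsg.Agent.H945.Wk.Co3Syl

theorem big : Big Spor.Co3 := by
  have : Fact (Nat.Prime 3) := ⟨Nat.prime_three⟩
  have := TAB.Co3.finite
  have hp := pc.isPGroup 7 0 (by norm_num)
  refine Big.congr SporRec.Co3.Model.equivCo3 (Big.of_sub _ (idx_sub (k := 7) ?_ ?_) (big_of_gen hp _ ?_ comm_gen ?_))
  · obtain ⟨n, hn⟩ := hp.exists_card_eq
    have h1 := hlow
    rw [hn] at h1 ⊢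
    exact pow_dvd_pow 3 ((Nat.pow_le_pow_iff_right (by norm_num)).1 h1)
  · rw [SporRec.Co3.Chain.isCo3_G3.2]
    norm_num
  · rintro _ ⟨i, -, hi, rfl⟩
    exact conj_D hi
  · have h1 := hlow
    have h2 := card_D
    omega

theorem good : Good Spor.Co3 := by
  have := TAB.Co3.finite
  obtain ⟨T, hm, hs⟩ := seeded
  obtain ⟨-, hT⟩ := tab_of_virt hm ok_one (virt_of_certs hm.1 ok_primes hs (allL_spec ok_certs) ok_all) ok_rows
  exact Good.of_big (((out_eq _).trans S2071.result).le.trans one_le_two) big (cp_of_tab hT (by decide +kernel)) deg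
    (by decide +kernel)

end Co3

namespace Co1

theorem good : Good Spor.Co1 := by
  have := H68.CoMdl.finite_co1
  obtain ⟨T, -, -, -, -, hT⟩ := TAB.Co1.tab
  exact Good.of_big (((out_eq _).trans S2069.result).le.trans one_le_two)
    (big_of_coords H956.Co1P.sylow_co1 (·.a) (·.b) (·.m33) (fun _ _ => rfl) (fun _ _ => rfl) (fun _ _ => rfl)
      fun i j k => ⟨⟨i, j, 0, 0, 0, 0, 0, 0, k⟩, rfl, rfl, rfl⟩)
    (cp_of_tab hT (by decide +kernel)) TAB.Co1.deg (by decide +kernel)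

end Co1

end Cfsg.Agent.KZ.SporB
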