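import Cfsg.Agent.KZ.Spor.Syl

/-!
# KZ: more tools for the Sylow `3`-subgroups of the large sporadic groups (helper11)
-/

set_option autoImplicit false

namespace Cfsg.Agent.KZ.SporB

open Cfsg Subgroup Cfsg.Agent.KZ.Spor

universe u v w

theorem idx_of_card {H : Type u} {G : Type v} [Group H] [Group G] [Finite G] {f : H →* G} (hf : Function.Injective f)
    {k : ℕ} (h1 : 3 ^ k ∣ Nat.card H) (h2 : ¬ 3 ^ (k + 1) ∣ Nat.card G) : ¬ 3 ∣ f.range.index := fun h => by
  apply h2
  rw [← f.range.card_mul_index, pow_succ, ← Nat.card_congr (MonoidHom.ofInjective hf).toEquiv]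
  exact mul_dvd_mul h1 h

theorem idx_sub {G : Type u} [Group G] [Finite G] {H : Subgroup G} {k : ℕ} (h1 : 3 ^ k ∣ Nat.card H)
    (h2 : ¬ 3 ^ (k + 1) ∣ Nat.card G) : ¬ 3 ∣ H.index := by
  have h := idx_of_card H.subtype_injective h1 h2
  rwa [range_subtype] at h

/-- to a subgroup of index prime to `3` -/
theorem big_down {H : Type u} {G : Type v} [Group H] [Group G] [Finite G] (f : H →* G) (hf : Function.Injective f)
    (hi : ¬ 3 ∣ f.range.index) (h : Big G) : Big H := fun Q => by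
  obtain ⟨P⟩ : Nonempty (Sylow 3 G) := inferInstance
  rw [← nab_of_inj f hf hi Q P]
  exact h P

/-- three coordinates on a model of the Sylow subgroups -/
theorem big_of_coords {X : Type u} {G : Type v} [Group X] [Group G] [Finite G]
    (h : ∀ P : Sylow 3 G, Nonempty (X ≃* (P : Subgroup G))) (a b c : X → ZMod 3)
    (ha : ∀ x y, a (x * y) = a x + a y) (hb : ∀ x y, b (x * y) = b x + b y) (hc : ∀ x y, c (x * y) = c x + c y)
    (hs : ∀ i j k, ∃ x, a x = i ∧ b x = j ∧ c x = k) : Big G := by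
  obtain ⟨P⟩ : Nonempty (Sylow 3 G) := inferInstance
  obtain ⟨e⟩ := h P
  let φ : X →* Multiplicative (ZMod 3 × ZMod 3 × ZMod 3) := MonoidHom.mk' (fun x => Multiplicative.ofAdd (a x, b x, c x))
    fun x y => by rw [ha, hb, hc]; rfl
  refine Big.of_hom P (φ.comp e.symm.toMonoidHom) (fun _ _ => mul_comm _ _) ?_
  rw [MonoidHom.range_eq_top.2, card_top]
  · simp
  · refine Function.Surjective.comp (g := φ) (fun t => ?_) e.symm.surjective
    obtain ⟨x, h1, h2, h3⟩ := hs t.toAdd.1 t.toAdd.2.1 t.toAdd.2.2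
    refine ⟨x, ?_⟩
    change Multiplicative.ofAdd (a x, b x, c x) = t
    rw [h1, h2, h3]
    rfl

/-- a subgroup which contains the commutators of the generators -/
theorem big_of_gen {G : Type u} [Group G] [Finite G] {s : Set G} (hp : IsPGroup 3 (closure s)) (R : Subgroup G)
    (hn : ∀ a ∈ s, ∀ r ∈ R, a * r * a⁻¹ ∈ R) (hc : ∀ a ∈ s, ∀ b ∈ s, a * b * a⁻¹ * b⁻¹ ∈ R)
    (h : 27 * Nat.card R ≤ Nat.card (closure s)) : Big (closure s) := by
  have h1 : closure s ≤ normalizer (R : Set G) := (closure_le _).2 fun a ha => mem_normalizer_fintype (hn a ha)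
  have h2 : (R.subgroupOf (closure s)).Normal :=
    ⟨fun r hr g => (mem_normalizer_iff.1 (h1 g.2) r).1 hr⟩
  have h3 := comm_le_of_gen (R.subgroupOf (closure s)) (s := (closure s).subtype ⁻¹' s) (closure_preimage_eq_top s)
    fun a ha b hb => hc a ha b hb
  refine Big.of_pgroup hp (le_trans ?_ (Nat.le_of_dvd (comm_index_pos _) (index_dvd_of_le h3)))
  have h4 := (R.subgroupOf (closure s)).index_mul_card
  have h5 : Nat.card (R.subgroupOf (closure s)) ≤ Nat.card R :=
    Nat.card_le_card_of_injective (fun x => (⟨x.1.1, x.2⟩ : R)) fun a b hab =>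
      Subtype.ext (Subtype.ext (congrArg Subtype.val hab :))
  rw [← h4] at h
  exact Nat.le_of_mul_le_mul_right (h.trans (Nat.mul_le_mul_left _ h5)) Nat.card_pos

theorem three_mul_le {G : Type u} [Group G] [Finite G] {W V : Subgroup G} (hV : IsPGroup 3 V) (h : W < V) :
    3 * Nat.card W ≤ Nat.card V := by
  have : Fact (Nat.Prime 3) := ⟨Nat.prime_three⟩
  obtain ⟨j, hj⟩ := hV.index (W.subgroupOf V)
  have h1 := (W.subgroupOf V).index_mul_card
  rw [Nat.card_congr (subgroupOfEquivOfLe h.le).toEquiv, hj] at h1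
  rcases j with _ | j
  · exact absurd (subgroupOf_eq_top.1 (index_eq_one.1 hj)) h.not_ge
  · rw [← h1]
    exact Nat.mul_le_mul_right _ (Nat.le_self_pow (Nat.succ_ne_zero j) 3)

/-- **LEMMA S** : a split extension -/
theorem big_of_split {X : Type u} [Group X] [Finite X] (hX : IsPGroup 3 X) (V K : Subgroup X) [hV : V.Normal]
    (h0 : V ≠ ⊥) (h9 : 9 ∣ Nat.card K) (hs : V ⊔ K = ⊤) (hc : Nat.card V * Nat.card K ≤ Nat.card X) : Big X := by
  have : Fact (Nat.Prime 3) := ⟨Nat.prime_three⟩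
  have := hX.isNilpotent
  let W : Subgroup X := ⁅V, ⊤⁆
  have h1 : W < V := by
    refine lt_of_le_of_ne (commutator_le_left V ⊤) fun h => h0 ?_
    have h2 : ∀ n, V ≤ (⊤ : Subgroup X).lowerCentralSeries n := fun n => by
      induction n with
      | zero => exact le_top
      | succ n ih => exact h.ge.trans (commutator_mono ih le_rfl)
    obtain ⟨n, hn⟩ := Subgroup.nilpotent_iff_lowerCentralSeries.1 this
    exact eq_bot_iff.2 ((h2 n).trans hn.le)
  have hW : ∀ v ∈ V, ∀ x, v * x * v⁻¹ * x⁻¹ ∈ W := fun v hv x => commutator_mem_commutator hv (mem_top x)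
  let R : Subgroup X := W ⊔ ⁅K, K⁆
  have h2 : closure ((V : Set X) ∪ K) = ⊤ := by rw [Subgroup.closure_union, closure_eq, closure_eq, hs]
  have h3 : R.Normal := by
    rw [← normalizer_eq_top_iff, eq_top_iff, ← hs, sup_le_iff]
    refine ⟨fun v hv => mem_normalizer_fintype fun r hr => ?_, fun k hk => mem_normalizer_fintype fun r hr => ?_⟩
    · have h4 := R.mul_mem (mem_sup_left (hW v hv r)) hr
      rwa [inv_mul_cancel_right] at h4
    · have h4 : R ≤ R.comap (MulAut.conj k).toMonoidHom := by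
        refine sup_le (fun w hw => mem_sup_left (Normal.conj_mem inferInstance w hw k)) (commutator_le.2 ?_)
        intro a ha b hb
        rw [mem_comap, map_commutatorElement]
        exact mem_sup_right (commutator_mem_commutator (K.mul_mem (K.mul_mem hk ha) (K.inv_mem hk))
          (K.mul_mem (K.mul_mem hk hb) (K.inv_mem hk)))
      exact h4 hr
  have h4 : commutator X ≤ R := comm_le_of_gen R h2 fun a ha b hb => by
    rcases ha with ha | ha
    · exact mem_sup_left (hW a ha b)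
    rcases hb with hb | hb
    · rw [show a * b * a⁻¹ * b⁻¹ = (b * a * b⁻¹ * a⁻¹)⁻¹ by group]
      exact R.inv_mem (mem_sup_left (hW b hb a))
    · exact mem_sup_right (commutator_mem_commutator ha hb)
  refine Big.of_pgroup hX (le_trans ?_ (Nat.le_of_dvd (comm_index_pos _) (index_dvd_of_le h4)))
  have h5 : Nat.card R ≤ Nat.card W * Nat.card (⁅K, K⁆ : Subgroup X) := by
    rw [← Nat.card_prod]
    refine Nat.card_le_card_of_surjective
      (fun p : W × (⁅K, K⁆ : Subgroup X) => (⟨p.1 * p.2, R.mul_mem (mem_sup_left p.1.2) (mem_sup_right p.2.2)⟩ : R)) ?_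
    rintro ⟨r, hr⟩
    have h6 : r ∈ ((W ⊔ ⁅K, K⁆ : Subgroup X) : Set X) := hr
    rw [normal_mul] at h6
    obtain ⟨a, ha, b, hb, rfl⟩ := h6
    exact ⟨(⟨a, ha⟩, ⟨b, hb⟩), rfl⟩
  have h6 := three_mul_le (hX.to_subgroup V) h1
  have h7 : 9 * Nat.card (⁅K, K⁆ : Subgroup X) ≤ Nat.card K := by
    rw [← map_subtype_commutator, card_map_of_injective K.subtype_injective, ← (commutator K).index_mul_card]
    exact Nat.mul_le_mul_right _ (nine_le (hX.to_subgroup K) h9)
  have h8 := R.index_mul_card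
  refine Nat.le_of_mul_le_mul_right (c := Nat.card R) ?_ Nat.card_pos
  rw [h8]
  calc 27 * Nat.card R ≤ 27 * (Nat.card W * Nat.card (⁅K, K⁆ : Subgroup X)) := Nat.mul_le_mul_left _ h5
    _ = 3 * Nat.card W * (9 * Nat.card (⁅K, K⁆ : Subgroup X)) := by ring
    _ ≤ _ := (Nat.mul_le_mul h6 h7).trans hc

/-! ### the centralizer of the Sylow subgroups -/

theorem cp_of_one {G : Type u} [Group G] [Finite G] (P : Sylow 3 G)
    (h : ∀ x ∈ centralizer ((P : Subgroup G) : Set G), ¬ 3 ∣ orderOf x → x = 1) : CP G := fun Q x hx h3 => by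
  have : Fact (Nat.Prime 3) := ⟨Nat.prime_three⟩
  obtain ⟨g, rfl⟩ := MulAction.exists_smul_eq G P Q
  have h1 := h (MulAut.conj g⁻¹ x) (mem_centralizer_iff.2 fun y hy => by
    have h2 := mem_centralizer_iff.1 hx (g * y * g⁻¹) ⟨y, hy, rfl⟩
    rw [MulAut.conj_apply]
    calc y * (g⁻¹ * x * g⁻¹⁻¹) = g⁻¹ * (g * y * g⁻¹ * x) * g := by group
      _ = _ := by rw [h2]; group) (by rwa [MulEquiv.orderOf_eq])
  exact (map_eq_one_iff _ (MulAut.conj g⁻¹).injective).1 h1

theorem eq_one_of_mem {G : Type u} [Group G] {R : Subgroup G} (hR : IsPGroup 3 R) {x : G} (hx : x ∈ R)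
    (h3 : ¬ 3 ∣ orderOf x) : x = 1 := by
  obtain ⟨k, hk⟩ := hR ⟨x, hx⟩
  have h1 : orderOf x ∣ 3 ^ k := orderOf_dvd_of_pow_eq_one (congrArg Subtype.val hk)
  exact orderOf_eq_one_iff.1 (Nat.eq_one_of_dvd_coprimes
    (Nat.Coprime.pow_right k ((Nat.Prime.coprime_iff_not_dvd Nat.prime_three).2 h3).symm) dvd_rfl h1)

/-- a `3`-subgroup which contains its centralizer -/
theorem cp_of_sub {G : Type u} [Group G] [Finite G] (Q : Subgroup G) (hQ : IsPGroup 3 Q)
    (h : ∀ x, (∀ q ∈ Q, q * x = x * q) → x ∈ Q) : CP G := by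
  have : Fact (Nat.Prime 3) := ⟨Nat.prime_three⟩
  obtain ⟨P, hP⟩ := hQ.exists_le_sylow
  exact cp_of_one P fun x hx => eq_one_of_mem hQ (h x fun q hq => mem_centralizer_iff.1 hx q (hP hq))

theorem cp_down {H : Type u} {G : Type v} [Group H] [Group G] [Finite G] (f : H →* G) (hf : Function.Injective f)
    (hi : ¬ 3 ∣ f.range.index) (h : CP G) : CP H := fun Q x hx h3 => by
  obtain ⟨P, hP, -⟩ := exists_nab f hf hi Q
  refine (map_eq_one_iff f hf).1 (h P (f x) (mem_centralizer_iff.2 ?_) (by rwa [orderOf_injective f hf]))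
  rw [hP]
  rintro _ ⟨y, hy, rfl⟩
  rw [← map_mul, ← map_mul, mem_centralizer_iff.1 hx y hy]

theorem cp_congr {S : Type u} {T : Type v} [Group S] [Group T] [Finite T] (e : S ≃* T) (h : CP T) : CP S :=
  cp_down (e : S →* T) e.injective (range_index_equiv e) h

/-- from the centralizer of a `3`-central element -/
theorem cp_of_cent {G : Type u} {K : Type v} [Group G] [Finite G] [Group K] {z : G} (hz : orderOf z = 3)
    (hi : ¬ 3 ∣ (centralizer ({z} : Set G)).index) (f : centralizer ({z} : Set G) →* K) (hf : Function.Surjective f)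
    (hk : IsPGroup 3 f.ker) (h : CP K) : CP G := by
  have : Fact (Nat.Prime 3) := ⟨Nat.prime_three⟩
  have hzz : z ∈ centralizer ({z} : Set G) := mem_centralizer_singleton_iff.2 rfl
  have h1 : IsPGroup 3 (zpowers (⟨z, hzz⟩ : centralizer ({z} : Set G))) :=
    IsPGroup.of_card (n := 1) (by rw [Nat.card_zpowers, Subgroup.orderOf_mk, hz, pow_one])
  obtain ⟨Q, hQ⟩ := h1.exists_le_sylow
  obtain ⟨P, hP, -⟩ := exists_nab (centralizer ({z} : Set G)).subtype Subtype.val_injective (by rwa [range_subtype]) Q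
  refine cp_of_one P fun x hx h3 => ?_
  rw [hP] at hx
  have h2 : x ∈ centralizer ({z} : Set G) :=
    mem_centralizer_singleton_iff.2 (mem_centralizer_iff.1 hx z ⟨_, hQ (mem_zpowers _), rfl⟩).symm
  have h4 : ¬ 3 ∣ orderOf (⟨x, h2⟩ : centralizer ({z} : Set G)) := by rwa [Subgroup.orderOf_mk]
  have h5 := h (Q.mapSurjective hf) (f ⟨x, h2⟩) (mem_centralizer_iff.2 (by
    rintro _ ⟨y, hy, rfl⟩
    rw [← map_mul, ← map_mul]
    exact congrArg f (Subtype.ext (mem_centralizer_iff.1 hx y ⟨y, hy, rfl⟩)))) fun h5 =>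
      h4 (h5.trans (orderOf_map_dvd f _))
  exact congrArg Subtype.val (eq_one_of_mem hk h5 h4)

end Cfsg.Agent.KZ.SporB
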